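import Groth.Prelude.Def_LieS
import Groth.Agent.S1937
import Groth.Agent.Lib.GrBC.Basic
import Groth.Agent.Lib.CI20.PullIdeal

/-!
# A closed subgroup has a quotient of the invariant differentials
-/

set_option autoImplicit false
set_option linter.style.haveILetI false
set_option backward.isDefEq.respectTransparency false

universe u

open CategoryTheory CategoryTheory.Limits MonObj AlgebraicGeometry

noncomputable section

namespace GrothLib.OmegaSub11

variable {S : Scheme.{u}}

/-- Invariant differentials are the conormal sheaf of the unit. -/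
theorem nonempty_omega_iso_conormal (G : Over S) [GrpObj G] [QuasiSeparated G.hom] :
    Nonempty (LieS.omega G ≅ Omega.conormal η[G].left) := by
  obtain ⟨⟨e⟩, -⟩ := Groth.Agent.S1937.result S G
  exact ⟨(Scheme.Modules.pullback η[G].left).mapIso e ≪≫
    (Scheme.Modules.pullbackComp η[G].left G.hom).app _ ≪≫
    (Scheme.Modules.pullbackCongr (GrothLib.GrpSchField.eta_left_hom G)).app _ ≪≫
    (Scheme.Modules.pullbackId S).app _⟩

theorem isClosedImmersion_eta (G : Over S) [GrpObj G] [IsSeparated G.hom] : IsClosedImmersion η[G].left := by
  haveI : IsClosedImmersion (η[G].left ≫ G.hom) := by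
    rw [GrothLib.GrpSchField.eta_left_hom]; exact (show IsClosedImmersion (𝟙 S) from inferInstance)
  exact IsClosedImmersion.of_comp η[G].left G.hom

/-- The invariant differentials of a closed subgroup are a quotient of those of the group. -/
theorem exists_epi_omega {P G : Over S} [GrpObj P] [GrpObj G] (i : P ⟶ G) [IsMonHom i]
    [IsClosedImmersion i.left] [IsSeparated G.hom] :
    ∃ q : LieS.omega G ⟶ LieS.omega P, Epi q := by
  haveI hsP : IsSeparated P.hom := by rw [← Over.w i]; infer_instance
  haveI := isClosedImmersion_eta G
  haveI := isClosedImmersion_eta P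
  have hη : η[P].left ≫ i.left = η[G].left := congrArg CommaMorphism.left (IsMonHom.one_hom i)
  let l : S ⟶ pullback i.left η[G].left :=
    pullback.lift η[P].left (𝟙 _) (by rw [Category.id_comp]; exact hη)
  have hfst : pullback.fst i.left η[G].left = pullback.snd i.left η[G].left ≫ η[P].left := by
    rw [← cancel_mono i.left, Category.assoc, hη, pullback.condition]
  haveI : IsIso (pullback.snd i.left η[G].left) :=
    ⟨l, pullback.hom_ext (by rw [Category.assoc, pullback.lift_fst, Category.id_comp, hfst])
      (by rw [Category.assoc, pullback.lift_snd]; exact (Category.comp_id _).trans (Category.id_comp _).symm), pullback.lift_snd _ _ _⟩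
  have hker : η[G].left.ker.comap i.left = η[P].left.ker := by
    rw [← Scheme.IdealSheafData.ker_fst_of_isClosedImmersion, hfst, Scheme.Hom.ker_comp_of_isIso]
  haveI := GrBC.epi_pullToComap i.left η[G].left.ker
  haveI := Functor.preservesEpimorphisms_of_adjunction (Scheme.Modules.pullbackPushforwardAdjunction η[P].left)
  obtain ⟨eG⟩ := nonempty_omega_iso_conormal G
  obtain ⟨eP⟩ := nonempty_omega_iso_conormal P
  refine ⟨eG.hom ≫ (Scheme.Modules.pullbackCongr hη.symm).hom.app _ ≫
    (Scheme.Modules.pullbackComp η[P].left i.left).inv.app _ ≫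
    (Scheme.Modules.pullback η[P].left).map (CI20.pullToComap i.left η[G].left.ker ≫
      eqToHom (congrArg ClSub.idealMod hker)) ≫ eP.inv, ?_⟩
  infer_instance

end GrothLib.OmegaSub11
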