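import Groth.Prelude.Def_CurvBase
import Groth.Prelude.Def_PerfAux
import Groth.Prelude.Def_Red
import Groth.Agent.Lib.OmegaSub11.Epi
import Groth.Agent.Lib.DerDiff26.Flat
import Groth.Agent.Lib.CurveMult.DegBound
import Groth.Agent.Lib.ConStalk4.RankAt
import Groth.Agent.Lib.LocFreeHom.Lift
import Groth.Agent.Lib.FibReg5.Basic
import Groth.Agent.Lib.Euler.Rank
import Groth.Agent.Lib.CurveLocus.Basic
import Groth.Agent.S1025
import Groth.Agent.S1026

/-!
# Uniform bounds on the fibres of a curve
-/

set_option autoImplicit false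
set_option linter.style.haveILetI false
set_option backward.isDefEq.respectTransparency false

universe u

open CategoryTheory CategoryTheory.Limits MonObj AlgebraicGeometry TopologicalSpace

noncomputable section

namespace GrothLib.OmegaSub11

open CategoryTheory.Functor in
/-- The unit of a base changed group. -/
theorem eta_bc_fst {S S' : Scheme.{u}} (g : S' ⟶ S) (G : Over S) [GrpObj G] :
    η[Red.bc g G].left ≫ pullback.fst G.hom g = g ≫ η[G].left := by
  let F := Over.pullback g
  have e : η[Red.bc g G].left = (LaxMonoidal.ε F).left ≫ (F.map η[G]).left :=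
    congrArg CommaMorphism.left (Functor.obj.η_def (F := F) (X := G))
  have h1 : (F.map η[G]).left ≫ pullback.fst G.hom g = pullback.fst (𝟙 S) g ≫ η[G].left :=
    pullback.lift_fst _ _ _
  have h2 : (LaxMonoidal.ε F).left ≫ pullback.snd (𝟙 S) g = 𝟙 S' := Over.w (LaxMonoidal.ε F)
  have h3 : (LaxMonoidal.ε F).left ≫ pullback.fst (𝟙 S) g = g := by
    have := congrArg ((LaxMonoidal.ε F).left ≫ ·) (pullback.condition (f := 𝟙 S) (g := g))
    simp only [Category.comp_id] at this
    rw [this, ← Category.assoc, h2]
    exact Category.id_comp g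
  rw [e, Category.assoc, h1, ← Category.assoc, h3]

/-- Invariant differentials commute with base change. -/
theorem nonempty_omega_bc {S S' : Scheme.{u}} (g : S' ⟶ S) (G : Over S) [GrpObj G] [QuasiSeparated G.hom] :
    Nonempty ((Scheme.Modules.pullback g).obj (LieS.omega G) ≅ LieS.omega (Red.bc g G)) := by
  have hc : IsPullback (pullback.fst G.hom g) (Red.bc g G).hom G.hom g := IsPullback.of_hasPullback G.hom g
  haveI : QuasiSeparated (Red.bc g G).hom := MorphismProperty.of_isPullback hc ‹_›
  obtain ⟨e⟩ := DerDiff26.nonempty_pullback_omega hc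
  exact ⟨(Scheme.Modules.pullbackComp g η[G].left).app _ ≪≫
    (Scheme.Modules.pullbackCongr (eta_bc_fst g G).symm).app _ ≪≫
    ((Scheme.Modules.pullbackComp η[Red.bc g G].left (pullback.fst G.hom g)).app _).symm ≪≫
    (Scheme.Modules.pullback η[Red.bc g G].left).mapIso e⟩

variable {X S : Scheme.{u}}

/-- The cohomology on a fibre over a field valued point is that on the fibre. -/
theorem exists_fibre_point (p : X ⟶ S) [IsProper p] (K : Type u) [Field K] (x : Spec (CommRingCat.of K) ⟶ S) :
    ∃ s : S, ∀ (F : X.Modules), F.IsQuasicoherent →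
      letI : (pullback p x).Over (Spec (CommRingCat.of K)) := ⟨pullback.snd p x⟩
      (∀ i : ℕ, Module.finrank K (Coh.HH (pullback p x) ((Scheme.Modules.pullback (pullback.fst p x)).obj F) i) =
        PerfAux.betti p F s i) ∧
      Curv2.euler K (pullback p x) ((Scheme.Modules.pullback (pullback.fst p x)).obj F) = PerfAux.eulerChar p F s := by
  let s := x (IsLocalRing.closedPoint K)
  refine ⟨s, fun F hF => ?_⟩
  letI : (pullback p x).Over (Spec (CommRingCat.of K)) := ⟨pullback.snd p x⟩
  letI : (p.fiber s).Over (Spec (CommRingCat.of (S.residueField s))) := ⟨p.fiberToSpecResidueField s⟩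
  let φ := Scheme.descResidueField (Scheme.stalkClosedPointTo x)
  have hx : Spec.map φ ≫ S.fromSpecResidueField s = x :=
    Scheme.descResidueField_stalkClosedPointTo_fromSpecResidueField K S x
  let g : pullback p x ⟶ p.fiber s := pullback.lift (pullback.fst p x) (pullback.snd p x ≫ Spec.map φ)
    (by rw [Category.assoc, hx]; exact pullback.condition)
  have hg : g ≫ p.fiberι s = pullback.fst p x := pullback.lift_fst _ _ _
  have H : IsPullback g ((pullback p x) ↘ Spec (CommRingCat.of K)) ((p.fiber s) ↘ Spec (CommRingCat.of (S.residueField s)))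
      (Spec.map (CommRingCat.ofHom φ.hom)) := by
    show IsPullback g (pullback.snd p x) (p.fiberToSpecResidueField s) (Spec.map φ)
    refine IsPullback.of_right ?_ (pullback.lift_snd _ _ _) (IsPullback.of_hasPullback p (S.fromSpecResidueField s))
    rw [pullback.lift_fst, hx]
    exact IsPullback.of_hasPullback p x
  haveI : IsProper ((p.fiber s) ↘ Spec (CommRingCat.of (S.residueField s))) :=
    MorphismProperty.pullback_snd p _ ‹_›
  haveI := hF
  haveI : ((Scheme.Modules.pullback (p.fiberι s)).obj F).IsQuasicoherent :=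
    FittSheaf.isQuasicoherent_pullback (p.fiberι s) F
  have key : ∀ i : ℕ, Module.finrank K (Coh.HH (pullback p x) ((Scheme.Modules.pullback (pullback.fst p x)).obj F) i) =
      PerfAux.betti p F s i := fun i => by
    rw [LinearEquiv.finrank_eq (Euler.hhEquiv (A := K) (((Scheme.Modules.pullbackComp g (p.fiberι s)).app F ≪≫
      (Scheme.Modules.pullbackCongr hg).app F).symm) i)]
    exact CurveMult.finrank_HH_baseChange φ.hom g H _ i
  exact ⟨key, finsum_congr fun i => by rw [key i]⟩

/-- The dimension of a fibre over a field valued point. -/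
theorem topologicalKrullDim_fibre_point (p : X ⟶ S) [IsProper p] (K : Type u) [Field K]
    (x : Spec (CommRingCat.of K) ⟶ S) (d : WithBot ℕ∞) (hd : ∀ s : S, topologicalKrullDim (p.fiber s) = d) :
    topologicalKrullDim (pullback p x : Scheme.{u}) = d := by
  let s := x (IsLocalRing.closedPoint K)
  let φ := Scheme.descResidueField (Scheme.stalkClosedPointTo x)
  have hx : Spec.map φ ≫ S.fromSpecResidueField s = x :=
    Scheme.descResidueField_stalkClosedPointTo_fromSpecResidueField K S x
  let g : pullback p x ⟶ p.fiber s := pullback.lift (pullback.fst p x) (pullback.snd p x ≫ Spec.map φ)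
    (by rw [Category.assoc, hx]; exact pullback.condition)
  have H : IsPullback g (pullback.snd p x) (p.fiberToSpecResidueField s) (Spec.map φ) := by
    refine IsPullback.of_right ?_ (pullback.lift_snd _ _ _) (IsPullback.of_hasPullback p (S.fromSpecResidueField s))
    rw [pullback.lift_fst, hx]
    exact IsPullback.of_hasPullback p x
  haveI : IsProper (p.fiberToSpecResidueField s) := MorphismProperty.pullback_snd p _ ‹_›
  exact (CurveLocus.topologicalKrullDim_of_isPullback (k := S.residueField s) (p.fiberToSpecResidueField s) H).trans (hd s)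

theorem exists_betti_bound [CompactSpace S] [IsLocallyNoetherian S] (p : X ⟶ S) [IsProper p]
    (F : X.Modules) (hF : Coh.IsCoh F) (hfl : FlatMod.IsFlatOver p F) (i : ℕ) :
    ∃ N : ℕ, ∀ s, PerfAux.betti p F s i ≤ N := by
  haveI : IsLocallyNoetherian X := LocallyOfFiniteType.isLocallyNoetherian p
  haveI : LocallyOfFinitePresentation p := inferInstance
  have hFP := FibReg5.isFP_of_isCoh hF
  obtain ⟨t, ht⟩ := isCompact_univ.elim_finite_subcover (fun n : ℕ => {s : S | PerfAux.betti p F s i < n})
    (fun n => Groth.Agent.S1025.result p F hFP hfl i n) (fun s _ => Set.mem_iUnion.2 ⟨_, Nat.lt_succ_self _⟩)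
  refine ⟨t.sup id, fun s => ?_⟩
  obtain ⟨n, hn, hs⟩ := Set.mem_iUnion₂.1 (ht (Set.mem_univ s))
  exact le_trans (le_of_lt hs) (Finset.le_sup (f := id) hn)

theorem exists_euler_bound [CompactSpace S] [IsLocallyNoetherian S] (p : X ⟶ S) [IsProper p]
    (F : X.Modules) (hF : Coh.IsCoh F) (hfl : FlatMod.IsFlatOver p F) :
    ∃ N : ℤ, ∀ s, |PerfAux.eulerChar p F s| ≤ N := by
  haveI : IsLocallyNoetherian X := LocallyOfFiniteType.isLocallyNoetherian p
  have hFP := FibReg5.isFP_of_isCoh hF
  have hfin := (Groth.Agent.S1026.result p F hFP hfl).range_finite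
  obtain ⟨N, hN⟩ := (hfin.image (fun z : ℤ => |z|)).bddAbove
  exact ⟨N, fun s => hN ⟨_, ⟨s, rfl⟩, rfl⟩⟩

/-- The ranks of a vector bundle on a quasi-compact scheme are bounded. -/
theorem exists_rankAt_bound [CompactSpace X] {E : X.Modules} (hE : FlatMod.IsFinLocFree E) :
    ∃ N : ℕ, ∀ x, ∃ n ≤ N, ConStalk4.RankAt E x n := by
  choose U n hx hU using hE
  obtain ⟨t, ht⟩ := isCompact_univ.elim_finite_subcover (fun x : X => (U x : Set X)) (fun x => (U x).isOpen)
    (fun x _ => Set.mem_iUnion.2 ⟨x, hx x⟩)
  refine ⟨t.sup n, fun y => ?_⟩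
  obtain ⟨x, hxt, hy⟩ := Set.mem_iUnion₂.1 (ht (Set.mem_univ y))
  exact ⟨n x, Finset.le_sup hxt, U x, hy, hU x⟩

theorem grank_of_rankAt [IsIntegral X] {E : X.Modules} {n : ℕ} (h : ConStalk4.RankAt E (genericPoint X) n) :
    Euler.grank E = n := by
  obtain ⟨U, hx, ⟨i⟩⟩ := h
  obtain ⟨e, he⟩ := FinCov.exists_frame_of_iso i
  refine Euler.grank_eq_of_frame he ⟨genericPoint X, ?_⟩
  rw [Scheme.Opens.ι_image_top]
  exact hx

end GrothLib.OmegaSub11
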